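import Groth.Agent.Lib.CohTop16.DirectImage
import Groth.Agent.Lib.CohFound.Inst
import Groth.Agent.Lib.EtStalk.HpullComp
import Mathlib.CategoryTheory.Adjunction.CompositionIso
import Mathlib.Algebra.Homology.DerivedCategory.Ext.Map
import Mathlib.Algebra.Homology.DerivedCategory.Ext.ExactSequences

/-! Cohomology of inverse images as a functor on spaces over a base. -/

universe w v v' u u'

open CategoryTheory CategoryTheory.Limits Opposite TopologicalSpace CategoryTheory.Abelian

set_option autoImplicit false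
set_option linter.style.haveILetI false

namespace Groth.Agent.CohTop16

noncomputable section

section General

variable {A : Type u} [Category.{v} A] [Abelian A] [HasExt.{w} A] [EnoughInjectives A]
  {B : Type u'} [Category.{v'} B] [Abelian B] [HasExt.{w} B]
  (R R' : A ⥤ B) [R.Additive] [PreservesFiniteLimits R] [PreservesFiniteColimits R]
  [R'.Additive] [PreservesFiniteLimits R'] [PreservesFiniteColimits R'] (α : R ⟶ R')

/-- Naturality of the maps of Ext groups in the exact functor. -/
theorem mapExt_nat : ∀ (n : ℕ) {X Y : A} (x : Ext X Y n),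
    (x.mapExactFunctor R).comp (Ext.mk₀ (α.app Y)) (add_zero n) =
      (Ext.mk₀ (α.app X)).comp (x.mapExactFunctor R') (zero_add n)
  | 0, X, Y, x => by
    obtain ⟨f, rfl⟩ := (Ext.mk₀_bijective _ _).2 x
    rw [Ext.mapExactFunctor_mk₀, Ext.mapExactFunctor_mk₀, Ext.mk₀_comp_mk₀, Ext.mk₀_comp_mk₀]
    exact congrArg Ext.mk₀ (α.naturality f)
  | n + 1, X, Y, x => by
    let S := ShortComplex.mk (Injective.ι Y) (cokernel.π (Injective.ι Y)) (cokernel.condition _)
    have hS : S.ShortExact := { exact := ShortComplex.exact_cokernel (Injective.ι Y) }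
    haveI : Injective S.X₂ := inferInstanceAs (Injective (Injective.under Y))
    obtain ⟨y, rfl⟩ := Ext.covariant_sequence_exact₁ _ hS x (Ext.eq_zero_of_injective _) (n₀ := n) rfl
    rw [Ext.mapExactFunctor_comp, Ext.mapExactFunctor_comp]
    rw [Ext.mapExactFunctor_extClass R hS, Ext.mapExactFunctor_extClass R' hS]
    let φ : S.map R ⟶ S.map R' :=
      { τ₁ := α.app S.X₁
        τ₂ := α.app S.X₂
        τ₃ := α.app S.X₃
        comm₁₂ := (α.naturality S.f).symm
        comm₂₃ := (α.naturality S.g).symm }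
    have hn := ShortComplex.ShortExact.extClass_naturality (hS.map_of_exact R) (hS.map_of_exact R') φ
    have ih := mapExt_nat n y
    erw [Ext.comp_assoc_of_third_deg_zero, hn]
    erw [← Ext.comp_assoc_of_second_deg_zero, ih]
    exact Ext.comp_assoc _ _ _ (zero_add n) rfl (by lia)

/-- The identity functor acts identically on Ext groups. -/
theorem mapExt_id : ∀ (n : ℕ) {X Y : A} (x : Ext X Y n), x.mapExactFunctor (𝟭 A) = x
  | 0, X, Y, x => by
    obtain ⟨f, rfl⟩ := (Ext.mk₀_bijective _ _).2 x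
    rw [Ext.mapExactFunctor_mk₀]
    rfl
  | n + 1, X, Y, x => by
    let S := ShortComplex.mk (Injective.ι Y) (cokernel.π (Injective.ι Y)) (cokernel.condition _)
    have hS : S.ShortExact := { exact := ShortComplex.exact_cokernel (Injective.ι Y) }
    haveI : Injective S.X₂ := inferInstanceAs (Injective (Injective.under Y))
    obtain ⟨y, rfl⟩ := Ext.covariant_sequence_exact₁ _ hS x (Ext.eq_zero_of_injective _) (n₀ := n) rfl
    rw [Ext.mapExactFunctor_comp, Ext.mapExactFunctor_extClass (𝟭 A) hS, mapExt_id n y]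
    rfl

/-- Conjugation by isomorphisms on Ext groups. -/
def conj {X X' Y Y' : A} (a : X' ⟶ X) (b : Y ⟶ Y') (n : ℕ) : Ext X Y n →+ Ext X' Y' n :=
  AddMonoidHom.mk' (fun x => ((Ext.mk₀ a).comp x (zero_add n)).comp (Ext.mk₀ b) (add_zero n))
    fun x y => by rw [Ext.comp_add, Ext.add_comp]

omit [EnoughInjectives A] in
theorem conj_conj {X X' X'' Y Y' Y'' : A} (a : X' ⟶ X) (a' : X'' ⟶ X') (b : Y ⟶ Y') (b' : Y' ⟶ Y'')
    (n : ℕ) (x : Ext X Y n) : conj a' b' n (conj a b n x) = conj (a' ≫ a) (b ≫ b') n x := by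
  simp only [conj, AddMonoidHom.mk'_apply, Ext.comp_assoc_of_third_deg_zero, Ext.comp_assoc_of_second_deg_zero,
    Ext.mk₀_comp_mk₀, ← Ext.comp_assoc _ _ _ (zero_add 0) (zero_add n) (show 0 + 0 + n = n by lia)]

omit [EnoughInjectives A] in
theorem conj_id {X Y : A} (n : ℕ) (x : Ext X Y n) : conj (𝟙 X) (𝟙 Y) n x = x := by
  simp [conj]

omit [EnoughInjectives A] in
theorem bijective_conj {X X' Y Y' : A} (a : X' ≅ X) (b : Y ≅ Y') (n : ℕ) :
    Function.Bijective (conj a.hom b.hom n) := by
  refine Function.bijective_iff_has_inverse.2 ⟨conj a.inv b.inv n, fun x => ?_, fun x => ?_⟩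
  · rw [conj_conj, a.inv_hom_id, b.hom_inv_id, conj_id]
  · rw [conj_conj, a.hom_inv_id, b.inv_hom_id, conj_id]

end General

variable {S : TopCat.{u}}

/-- Composition of inverse images. -/
def pullCompIso {a b : Over S} (g : a ⟶ b) : CohTop.pull b.hom ⋙ CohTop.pull g.left ≅ CohTop.pull a.hom :=
  Adjunction.leftAdjointCompIso (pullAdj b.hom) (pullAdj g.left) (pullAdj a.hom)
    (eqToIso (by rw [← Over.w g]; rfl))

theorem pullCompIso_comp {a b c : Over S} (g : a ⟶ b) (h : b ⟶ c) :
    ∃ β : CohTop.pull h.left ⋙ CohTop.pull g.left ≅ CohTop.pull (g ≫ h).left,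
      Functor.isoWhiskerLeft (CohTop.pull c.hom) β ≪≫ pullCompIso (g ≫ h) =
        (Functor.associator _ _ _).symm ≪≫ Functor.isoWhiskerRight (pullCompIso h) (CohTop.pull g.left) ≪≫
          pullCompIso g := by
  refine ⟨Adjunction.leftAdjointCompIso (pullAdj h.left) (pullAdj g.left) (pullAdj (g ≫ h).left) (Iso.refl _), ?_⟩
  refine Adjunction.leftAdjointCompIso_assoc (pullAdj c.hom) (pullAdj h.left) (pullAdj g.left) (pullAdj b.hom)
    (pullAdj (g ≫ h).left) (pullAdj a.hom) _ _ _ _ ?_
  ext G : 3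
  simp only [Iso.trans_hom, Functor.isoWhiskerLeft_hom, NatTrans.comp_app, Functor.whiskerLeft_app,
    eqToIso.hom, eqToHom_app, Iso.symm_hom, Functor.associator_inv_app, Functor.isoWhiskerRight_hom,
    Functor.whiskerRight_app, Iso.refl_hom, NatTrans.id_app, eqToHom_map, eqToHom_trans]
  erw [CategoryTheory.Functor.map_id, Category.id_comp, Category.id_comp]
  all_goals rfl

variable (Z F : CohTop.Ab S) (n : ℕ)

/-- `Ext(b⁻¹Z, b⁻¹F)`. -/
abbrev grpH (b : Over S) : Type u := Ext ((CohTop.pull b.hom).obj Z) ((CohTop.pull b.hom).obj F) n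

/-- The pullback maps. -/
def mapH {a b : Over S} (g : a ⟶ b) : grpH Z F n b →+ grpH Z F n a :=
  AddMonoidHom.mk' (fun x => conj ((pullCompIso g).inv.app Z) ((pullCompIso g).hom.app F) n
      (x.mapExactFunctor (CohTop.pull g.left))) fun x y => by
    simp only [Ext.mapExactFunctor_add, map_add]

theorem mapH_apply {a b : Over S} (g : a ⟶ b) (x : grpH Z F n b) : mapH Z F n g x =
    ((Ext.mk₀ ((pullCompIso g).inv.app Z)).comp (x.mapExactFunctor (CohTop.pull g.left)) (zero_add n)).comp
      (Ext.mk₀ ((pullCompIso g).hom.app F)) (add_zero n) := rfl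

theorem mapH_comp {a b c : Over S} (g : a ⟶ b) (h : b ⟶ c) (x : grpH Z F n c) :
    mapH Z F n (g ≫ h) x = mapH Z F n g (mapH Z F n h x) := by
  obtain ⟨β, hβ⟩ := pullCompIso_comp g h
  have eF : (CohTop.pull g.left).map ((pullCompIso h).hom.app F) ≫ (pullCompIso g).hom.app F =
      β.hom.app _ ≫ (pullCompIso (g ≫ h)).hom.app F := by
    have := congrArg (fun i => i.hom.app F) hβ
    simpa using this.symm
  have eZ : (pullCompIso g).inv.app Z ≫ (CohTop.pull g.left).map ((pullCompIso h).inv.app Z) =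
      (pullCompIso (g ≫ h)).inv.app Z ≫ β.inv.app _ := by
    have := congrArg (fun i => i.inv.app Z) hβ
    simpa using this.symm
  have key := EtStalk.mapExt_comp_nat (CohTop.pull h.left) (CohTop.pull g.left) (CohTop.pull (g ≫ h).left)
    β.hom n x
  have key' : (x.mapExactFunctor (CohTop.pull h.left)).mapExactFunctor (CohTop.pull g.left) =
      ((Ext.mk₀ (β.hom.app _)).comp (x.mapExactFunctor (CohTop.pull (g ≫ h).left)) (zero_add n)).comp
        (Ext.mk₀ (β.inv.app _)) (add_zero n) := by
    rw [← key, Ext.comp_assoc_of_third_deg_zero, Ext.mk₀_comp_mk₀, Iso.hom_inv_id_app]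
    exact (Ext.comp_mk₀_id _).symm
  rw [mapH_apply, mapH_apply, mapH_apply, Ext.mapExactFunctor_comp, Ext.mapExactFunctor_comp,
    Ext.mapExactFunctor_mk₀, Ext.mapExactFunctor_mk₀, key']
  simp only [Ext.comp_assoc_of_third_deg_zero, Ext.comp_assoc_of_second_deg_zero, Ext.mk₀_comp_mk₀,
    ← Ext.comp_assoc _ _ _ (zero_add 0) (zero_add n) (show 0 + 0 + n = n by lia)]
  simp only [Category.assoc]
  rw [eF, reassoc_of% eZ]
  simp only [Iso.inv_hom_id_app, Iso.inv_hom_id_app_assoc]
  congr 2
  all_goals try (simp; done)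

theorem bijective_mapH_id (a : Over S) : Function.Bijective (mapH Z F n (𝟙 a)) := by
  let γ : CohTop.pull (𝟙 a : a ⟶ a).left ≅ 𝟭 _ :=
    Adjunction.leftAdjointIdIso (pullAdj (𝟙 a : a ⟶ a).left) (Iso.refl _)
  have e : ∀ x : grpH Z F n a, x.mapExactFunctor (CohTop.pull (𝟙 a : a ⟶ a).left) =
      conj (γ.hom.app _) (γ.inv.app _) n x := by
    intro x
    have h := mapExt_nat _ _ γ.hom n x
    rw [mapExt_id] at h
    have h' := congrArg (fun z => Ext.comp z (Ext.mk₀ (γ.inv.app _)) (add_zero n)) h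
    simp only [Ext.comp_assoc_of_third_deg_zero, Ext.mk₀_comp_mk₀, Iso.hom_inv_id_app, Ext.comp_mk₀_id] at h'
    simpa [conj] using h'
  have : (mapH Z F n (𝟙 a) : grpH Z F n a → _) =
      conj ((pullCompIso (𝟙 a)).inv.app Z) ((pullCompIso (𝟙 a)).hom.app F) n ∘
        conj (γ.hom.app _) (γ.inv.app _) n := funext fun x => by
    rw [Function.comp_apply, ← e]
    rfl
  rw [this]
  exact (bijective_conj ((pullCompIso (𝟙 a)).symm.app Z) ((pullCompIso (𝟙 a)).app F) n).comp
    (bijective_conj (γ.app _) (γ.symm.app _) n)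

theorem mapH_id (a : Over S) (x : grpH Z F n a) : mapH Z F n (𝟙 a) x = x := by
  apply (bijective_mapH_id Z F n a).1
  rw [← mapH_comp, Category.id_comp]

/-- `b ↦ Ext(b⁻¹Z, b⁻¹F)` as a functor on spaces over `S`. -/
def pullH : (Over S)ᵒᵖ ⥤ AddCommGrpCat.{u} where
  obj b := AddCommGrpCat.of (grpH Z F n b.unop)
  map g := AddCommGrpCat.ofHom (mapH Z F n g.unop)
  map_id b := by
    ext x
    exact mapH_id Z F n b.unop x
  map_comp g h := by
    ext x
    exact mapH_comp Z F n h.unop g.unop x

section Const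

/-- The constant sheaf of integers. -/
abbrev constZ (X : TopCat.{u}) : CohTop.Ab X :=
  (constantSheaf (Opens.grothendieckTopology X) AddCommGrpCat.{u}).obj (AddCommGrpCat.of (ULift.{u} ℤ))

/-- The inverse image of a constant sheaf is constant. -/
def pullConst {X : TopCat.{u}} (f : X ⟶ S) : (CohTop.pull f).obj (constZ S) ≅ constZ X :=
  ((((constantSheafAdj (Opens.grothendieckTopology S) AddCommGrpCat.{u}
      (Preorder.isTerminalTop (Opens S))).comp (pullAdj f)).ofNatIsoRight
        (Iso.refl _ : CohTop.push f ⋙ (sheafSections (Opens.grothendieckTopology S) AddCommGrpCat.{u}).obj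
          (op (⊤ : Opens S)) ≅ (sheafSections (Opens.grothendieckTopology X) AddCommGrpCat.{u}).obj
          (op (⊤ : Opens X)))).leftAdjointUniq
    (constantSheafAdj (Opens.grothendieckTopology X) AddCommGrpCat.{u} (Preorder.isTerminalTop (Opens X)))).app _

/-- The value of `pullH` is cohomology. -/
def pullHIso (b : Over S) :
    (pullH (constZ S) F n).obj (op b) ≅ AddCommGrpCat.of (CohTop.H ((CohTop.pull b.hom).obj F) n) :=
  AddEquiv.toAddCommGrpIso (X := AddCommGrpCat.of _) (Y := AddCommGrpCat.of _)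
    (AddEquiv.ofBijective (conj (pullConst b.hom).inv (Iso.refl ((CohTop.pull b.hom).obj F)).hom n)
      (bijective_conj (pullConst b.hom).symm (Iso.refl _) n))

end Const

end

end Groth.Agent.CohTop16
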