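import Groth.Agent.Lib.CohTop16.PullH
import Groth.Agent.Lib.AdeqA.CechContract
import Mathlib.AlgebraicTopology.CechNerve
import Mathlib.AlgebraicTopology.ExtraDegeneracy
import Mathlib.Algebra.Homology.Embedding.ExtendHomology
import Mathlib.CategoryTheory.Limits.Shapes.WidePullbacks
import Mathlib.Topology.Category.TopCat.Limits.Basic

/-! The Čech cosimplicial groups of a map with a section. -/

universe u

open CategoryTheory CategoryTheory.Limits Opposite AlgebraicTopology Simplicial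

set_option autoImplicit false
set_option linter.style.haveILetI false

namespace Groth.Agent.CohTop16

noncomputable section

variable {X S : TopCat.{u}} (f : X ⟶ S) (s : S ⟶ X) (hs : s ≫ f = 𝟙 S) (F : CohTop.Ab S) (q : ℕ)

/-- The Čech nerve over `S`. -/
def nerveOver : SimplicialObject (Over S) where
  obj n := Over.mk (WidePullback.base (fun _ : Fin (n.unop.len + 1) => f) :
    widePullback S (fun _ : Fin (n.unop.len + 1) => X) (fun _ => f) ⟶ S)
  map g := Over.homMk ((Arrow.mk f).cechNerve.map g) (WidePullback.lift_base ..)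
  map_id n := Over.OverMorphism.ext ((Arrow.mk f).cechNerve.map_id n)
  map_comp g h := Over.OverMorphism.ext ((Arrow.mk f).cechNerve.map_comp g h)

/-- The cosimplicial group of cohomology of the inverse images. -/
def cosimp : CosimplicialObject AddCommGrpCat.{u} :=
  (nerveOver f).rightOp ⋙ pullH (constZ S) F q

/-- The extra degeneracies over `S`. -/
def degen (n : ℕ) : (nerveOver f).obj (op ⦋n⦌) ⟶ (nerveOver f).obj (op ⦋n + 1⦌) :=
  Over.homMk (Arrow.AugmentedCechNerve.ExtraDegeneracy.s (Arrow.mk f) ⟨s, hs⟩ n)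
    (Arrow.AugmentedCechNerve.ExtraDegeneracy.s_comp_base (Arrow.mk f) ⟨s, hs⟩ n)

/-- The section into the zeroth term. -/
def degen' : Over.mk (𝟙 S) ⟶ (nerveOver f).obj (op ⦋0⦌) :=
  Over.homMk (Arrow.AugmentedCechNerve.extraDegeneracy (Arrow.mk f) ⟨s, hs⟩).s'
    (Arrow.AugmentedCechNerve.extraDegeneracy (Arrow.mk f) ⟨s, hs⟩).s'_comp_ε

/-- The augmentation. -/
def aug : (nerveOver f).obj (op ⦋0⦌) ⟶ Over.mk (𝟙 S) := Over.homMk ((nerveOver f).obj (op ⦋0⦌)).hom (Category.comp_id _)

theorem degen_δ₀ (n : ℕ) : degen f s hs n ≫ (nerveOver f).δ 0 = 𝟙 _ :=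
  Over.OverMorphism.ext ((Arrow.AugmentedCechNerve.extraDegeneracy (Arrow.mk f) ⟨s, hs⟩).s_comp_δ₀ n)

theorem degen_δ (n : ℕ) (i : Fin (n + 2)) :
    degen f s hs (n + 1) ≫ (nerveOver f).δ i.succ = (nerveOver f).δ i ≫ degen f s hs n :=
  Over.OverMorphism.ext ((Arrow.AugmentedCechNerve.extraDegeneracy (Arrow.mk f) ⟨s, hs⟩).s_comp_δ n i)

theorem degen₀_δ₁ : degen f s hs 0 ≫ (nerveOver f).δ 1 = aug f ≫ degen' f s hs :=
  Over.OverMorphism.ext ((Arrow.AugmentedCechNerve.extraDegeneracy (Arrow.mk f) ⟨s, hs⟩).s₀_comp_δ₁)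

theorem degen'_aug : degen' f s hs ≫ aug f = 𝟙 _ :=
  Over.OverMorphism.ext ((Arrow.AugmentedCechNerve.extraDegeneracy (Arrow.mk f) ⟨s, hs⟩).s'_comp_ε)

/-- The functor applied to a morphism, as a map of groups. -/
abbrev pm {a b : Over S} (g : a ⟶ b) : (pullH (constZ S) F q).obj (op b) ⟶ (pullH (constZ S) F q).obj (op a) :=
  (pullH (constZ S) F q).map g.op

theorem pm_comp {a b c : Over S} (g : a ⟶ b) (h : b ⟶ c) (x) : pm F q (g ≫ h) x = pm F q g (pm F q h x) :=
  mapH_comp (constZ S) F q g h x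

theorem pm_id (a : Over S) (x) : pm F q (𝟙 a) x = x := mapH_id (constZ S) F q a x

/-- The row complex. -/
abbrev row : CochainComplex AddCommGrpCat.{u} ℕ :=
  (alternatingCofaceMapComplex AddCommGrpCat.{u}).obj (cosimp f F q)

include hs in
theorem exactAt_row (n : ℕ) : (row f F q).ExactAt (n + 1) :=
  AdeqA.exactAt_of_extra (cosimp f F q) n (pm F q (degen f s hs n)) (pm F q (degen f s hs (n + 1)))
    (fun x => by
      show pm F q (degen f s hs (n + 1)) (pm F q ((nerveOver f).δ 0) x) = x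
      rw [← pm_comp, degen_δ₀, pm_id])
    (fun i x => by
      show pm F q (degen f s hs (n + 1)) (pm F q ((nerveOver f).δ i.succ) x) =
        pm F q ((nerveOver f).δ i) (pm F q (degen f s hs n) x)
      rw [← pm_comp, ← pm_comp, degen_δ])

theorem row_d_apply (x : (row f F q).X 0) :
    (row f F q).d 0 1 x = pm F q ((nerveOver f).δ 0) x - pm F q ((nerveOver f).δ 1) x := by
  have h : (row f F q).d 0 1 = (cosimp f F q).δ 0 - (cosimp f F q).δ 1 := by
    show (AlternatingCofaceMapComplex.obj (cosimp f F q)).d 0 1 = _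
    rw [show (AlternatingCofaceMapComplex.obj (cosimp f F q)).d 0 1 =
      AlternatingCofaceMapComplex.objD (cosimp f F q) 0 from
        CochainComplex.of_d (fun n => (cosimp f F q).obj ⦋n⦌) (AlternatingCofaceMapComplex.objD (cosimp f F q)) 0]
    simp [AlternatingCofaceMapComplex.objD, Fin.sum_univ_two]
    abel
  rw [h]
  rfl

theorem δ_aug : (nerveOver f).δ (0 : Fin 2) ≫ aug f = (nerveOver f).δ (1 : Fin 2) ≫ aug f :=
  Over.OverMorphism.ext ((Over.w ((nerveOver f).δ (0 : Fin 2))).trans (Over.w ((nerveOver f).δ (1 : Fin 2))).symm)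

include hs in
theorem nonempty_homology_row_zero :
    Nonempty ((row f F q).homology 0 ≅ AddCommGrpCat.of (CohTop.H F q)) := by
  have w : pm F q (aug f) ≫ (row f F q).d 0 1 = 0 := by
    ext x
    show (row f F q).d 0 1 (pm F q (aug f) x) = 0
    rw [row_d_apply, ← pm_comp, ← pm_comp, δ_aug, sub_self]
    try rfl
  let T := ShortComplex.mk (pm F q (aug f)) ((row f F q).d 0 1) w
  haveI : Mono T.f := by
    rw [AddCommGrpCat.mono_iff_injective]
    intro x y h
    have h' := congrArg (fun z => pm F q (degen' f s hs) z) h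
    simp only [T, ← pm_comp, degen'_aug, pm_id] at h'
    exact h'
  have hT : T.Exact := by
    rw [ShortComplex.ab_exact_iff]
    intro x hx
    refine ⟨pm F q (degen' f s hs) x, ?_⟩
    have hx' : pm F q ((nerveOver f).δ (0 : Fin 2)) x = pm F q ((nerveOver f).δ (1 : Fin 2)) x :=
      sub_eq_zero.1 ((row_d_apply f F q x).symm.trans hx)
    have h1 := congrArg (fun z => pm F q (degen f s hs 0) z) hx'
    simp only [← pm_comp, degen_δ₀, degen₀_δ₁, pm_id] at h1
    show pm F q (aug f) (pm F q (degen' f s hs) x) = x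
    rw [← pm_comp]
    exact h1.symm
  refine ⟨(row f F q).isoHomologyπ₀.symm ≪≫
    ((row f F q).cyclesIsKernel 0 1 (by simp)).conePointUniqueUpToIso hT.fIsKernel ≪≫
    pullHIso F q (Over.mk (𝟙 S)) ≪≫ ?_⟩
  exact AddEquiv.toAddCommGrpIso (X := AddCommGrpCat.of _) (Y := AddCommGrpCat.of _)
    (AddEquiv.ofBijective (conj (Iso.refl (constZ S)).hom
      ((Adjunction.leftAdjointIdIso (pullAdj (𝟙 S)) (Iso.refl _)).app F).hom q)
      (bijective_conj (Iso.refl _) ((Adjunction.leftAdjointIdIso (pullAdj (𝟙 S)) (Iso.refl _)).app F) q))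

theorem nonempty_row_X (p : ℕ) :
    Nonempty ((row f F q).X p ≅ AddCommGrpCat.of (CohTop.H ((CohTop.pull
      (WidePullback.base (fun _ : Fin (p + 1) => f) :
        widePullback S (fun _ : Fin (p + 1) => X) (fun _ => f) ⟶ S)).obj F) q)) :=
  ⟨pullHIso F q ((nerveOver f).obj (op ⦋p⦌))⟩

end

end Groth.Agent.CohTop16
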