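import Groth.Agent.Lib.SiteRlim16.AbClasses
import Groth.Agent.Lib.FibLocal8.Criterion
import Groth.Prelude.Def_CohTop
import Groth.Prelude.Def_CohCx

/-! Hypercohomology over preimages of opens and direct images of K-injective complexes. -/

universe w w' u

open CategoryTheory CategoryTheory.Limits Opposite TopologicalSpace

set_option autoImplicit false
set_option linter.style.haveILetI false
set_option linter.unusedSectionVars false
set_option backward.isDefEq.respectTransparency false
set_option backward.isDefEq.respectTransparency.types false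

namespace Groth.Agent.CohTop16

open SiteRlim

noncomputable section

variable {X Y : TopCat.{u}} (f : X ⟶ Y)

/-- The adjunction `f⁻¹ ⊣ f_*`. -/
def pullAdj : CohTop.pull f ⊣ CohTop.push f :=
  TopCat.Sheaf.pullbackPushforwardAdjunction AddCommGrpCat.{u} f

instance preservesFiniteLimits_pull : PreservesFiniteLimits (CohTop.pull f) := by
  change PreservesFiniteLimits ((Opens.map f).sheafPullback AddCommGrpCat.{u}
    (Opens.grothendieckTopology Y) (Opens.grothendieckTopology X))
  apply Functor.sheafPullbackConstruction.preservesFiniteLimits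

instance preservesFiniteColimits_pull : PreservesFiniteColimits (CohTop.pull f) :=
  haveI := (pullAdj f).leftAdjoint_preservesColimits
  inferInstance

instance additive_pull : (CohTop.pull f).Additive := (pullAdj f).left_adjoint_additive

local notation "gX" => genAb (Opens.grothendieckTopology X)
local notation "gY" => genAb (Opens.grothendieckTopology Y)

/-- The section corresponding to the identity. -/
def freeHom (V : Opens Y) : (gX).obj ((Opens.map f).obj V) ⟶ (CohTop.pull f).obj ((gY).obj V) :=
  (SiteCoh.secEquiv ((Opens.map f).obj V) _).symm (SiteCoh.secEquiv V _ ((pullAdj f).unit.app ((gY).obj V)))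

theorem secEquiv_freeHom (V : Opens Y) (F : CohTop.Ab X) (φ : (CohTop.pull f).obj ((gY).obj V) ⟶ F) :
    SiteCoh.secEquiv ((Opens.map f).obj V) F (freeHom f V ≫ φ) =
      SiteCoh.secEquiv V _ ((pullAdj f).homEquiv _ _ φ) := by
  rw [SiteCoh.secEquiv_comp, freeHom, Equiv.apply_symm_apply, Adjunction.homEquiv_unit, SiteCoh.secEquiv_comp]
  rfl

theorem bijective_freeHom_comp (V : Opens Y) (F : CohTop.Ab X) :
    Function.Bijective fun φ : (CohTop.pull f).obj ((gY).obj V) ⟶ F => freeHom f V ≫ φ := by
  have := ((((pullAdj f).homEquiv ((gY).obj V) F).trans (SiteCoh.secEquiv V ((CohTop.push f).obj F))).trans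
    (SiteCoh.secEquiv ((Opens.map f).obj V) F).symm).bijective
  refine (congrArg Function.Bijective (funext fun φ => ?_)).mp this
  exact ((SiteCoh.secEquiv ((Opens.map f).obj V) F).symm_apply_eq).2 (secEquiv_freeHom f V F φ).symm

instance isIso_freeHom (V : Opens Y) : IsIso (freeHom f V) :=
  isIso_of_coyoneda_map_bijective _ fun F => bijective_freeHom_comp f V F

theorem freeHom_naturality {V W : Opens Y} (g : V ⟶ W) :
    (gX).map ((Opens.map f).map g) ≫ freeHom f W = freeHom f V ≫ (CohTop.pull f).map ((gY).map g) := by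
  refine (SiteCoh.secEquiv _ _).injective ?_
  rw [secEquiv_freeHom, Adjunction.homEquiv_unit]
  erw [← (pullAdj f).unit.naturality ((gY).map g)]
  rw [Functor.id_map, secEquiv_pre, secEquiv_pre, freeHom, Equiv.apply_symm_apply]
  rfl

variable [HasDerivedCategory.{w} (CohTop.Ab X)] [HasDerivedCategory.{w'} (CohTop.Ab Y)]
  (I : CochainComplex (CohTop.Ab X) ℤ) [I.IsKInjective]

/-- The direct image complex in the derived category. -/
abbrev pushObj : DerivedCategory (CohTop.Ab Y) :=
  DerivedCategory.Q.obj (((CohTop.push f).mapHomologicalComplex (ComplexShape.up ℤ)).obj I)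

/-- The preimage of a free sheaf, in degree `m`. -/
def freeTop (m : ℤ) (V : Opens Y) :
    (DerivedCategory.singleFunctor (CohTop.Ab X) m).obj ((gX).obj ((Opens.map f).obj V)) ≅
      (CohTop.pull f).mapDerivedCategory.obj ((DerivedCategory.singleFunctor (CohTop.Ab Y) m).obj ((gY).obj V)) :=
  (DerivedCategory.singleFunctor (CohTop.Ab X) m).mapIso (asIso (freeHom f V)) ≪≫
    ((CohTop.pull f).mapDerivedCategorySingleFunctor m).symm.app ((gY).obj V)

/-- Classes over `V` of the direct image give classes over the preimage. -/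
def transfer (m : ℤ) (V : Opens Y)
    (y : (DerivedCategory.singleFunctor (CohTop.Ab Y) m).obj ((gY).obj V) ⟶ pushObj f I) :
    (DerivedCategory.singleFunctor (CohTop.Ab X) m).obj ((gX).obj ((Opens.map f).obj V)) ⟶
      DerivedCategory.Q.obj I :=
  (freeTop f m V).hom ≫ FibLocal8.psi (pullAdj f) I _ y

theorem bijective_transfer (m : ℤ) (V : Opens Y) : Function.Bijective (transfer f I m V) :=
  ((freeTop f m V).homCongr (Iso.refl _)).symm.bijective.comp
    (FibLocal8.bijective_psi (pullAdj f) I _) |> fun h =>
      (congrArg Function.Bijective (funext fun y => by simp [transfer, Iso.homCongr])).mp h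

theorem transfer_pre (m : ℤ) {V W : Opens Y} (g : V ⟶ W)
    (y : (DerivedCategory.singleFunctor (CohTop.Ab Y) m).obj ((gY).obj W) ⟶ pushObj f I) :
    transfer f I m V ((DerivedCategory.singleFunctor (CohTop.Ab Y) m).map ((gY).map g) ≫ y) =
      (DerivedCategory.singleFunctor (CohTop.Ab X) m).map ((gX).map ((Opens.map f).map g)) ≫
        transfer f I m W y := by
  simp only [transfer, freeTop, Iso.trans_hom, Functor.mapIso_hom, asIso_hom, Iso.app_hom, Category.assoc,
    FibLocal8.psi, Functor.map_comp]
  rw [← (DerivedCategory.singleFunctor (CohTop.Ab X) m).map_comp_assoc, freeHom_naturality,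
    Functor.map_comp_assoc]
  congr 1
  exact (((CohTop.pull f).mapDerivedCategorySingleFunctor m).symm.hom.naturality_assoc ((gY).map g) _).symm

theorem subsingleton_iff_transfer (m : ℤ) (V : Opens Y) :
    Subsingleton ((DerivedCategory.singleFunctor (CohTop.Ab Y) m).obj ((gY).obj V) ⟶ pushObj f I) ↔
      Subsingleton (CohCx.HDU (DerivedCategory.Q.obj I) m ((Opens.map f).obj V)) :=
  ((Equiv.ofBijective _ (bijective_transfer f I m V)).trans
    (Equiv.ofBijective _ (bijective_toHDU ((Opens.map f).obj V) m (DerivedCategory.Q.obj I)))).subsingleton_congr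

/-- Vanishing of negative hypercohomology on a basis puts the direct image in nonnegative degrees. -/
theorem isGE_pushObj (B : Set (Opens Y)) (hB : Opens.IsBasis B)
    (h : ∀ V ∈ B, ∀ i : ℤ, i < 0 →
      Subsingleton (CohCx.HDU (DerivedCategory.Q.obj I) i ((Opens.map f).obj V))) :
    (pushObj f I).IsGE 0 := by
  rw [DerivedCategory.isGE_iff]
  intro i hi
  rw [IsZero.iff_id_eq_zero]
  refine (localGen_genAb (Opens.grothendieckTopology Y)).gen _ fun {U} s => ?_
  rw [Category.comp_id]
  obtain ⟨S, hS, hS'⟩ := locally_exists_θ (localGen_genAb _) (K := pushObj f I) s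
  let P := {W : Opens Y // W ∈ B ∧ ∃ hWU : W ≤ U, S (homOfLE hWU)}
  refine (localGen_genAb (Opens.grothendieckTopology Y)).sep s
    (Sieve.ofArrows (fun p : P => p.1) fun p => homOfLE p.2.2.choose) (fun x hx => ?_) ?_
  · obtain ⟨V, g, hg, hxV⟩ := hS x hx
    obtain ⟨W, hW, hxW, hWV⟩ := Opens.isBasis_iff_nbhd.1 hB hxV
    exact ⟨W, homOfLE (hWV.trans (leOfHom g)),
      Sieve.ofArrows_mk (fun p : P => p.1) (fun p => homOfLE p.2.2.choose)
        ⟨W, hW, hWV.trans (leOfHom g), S.downward_closed hg (homOfLE hWV)⟩, hxW⟩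
  · rintro V g ⟨_, a, b, ⟨⟨W, hW, hWS⟩⟩, rfl⟩
    obtain ⟨y, hy⟩ := hS' _ hWS.choose_spec
    haveI := (subsingleton_iff_transfer f I i W).2 (h W hW i hi)
    rw [Functor.map_comp, Category.assoc, ← hy, Subsingleton.elim y 0]
    simp [θ]

end

end Groth.Agent.CohTop16
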